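import Cfsg.Agent.H845.CopLy
import Cfsg.Agent.KFacts.Co3D4.Model
import Cfsg.Agent.CTwoTab.Co3
import Cfsg.Agent.S4613
import Cfsg.Agent.Prune
set_option linter.all false
prune_inst 0x7f00000000000000000000000000000000000000000000000000000000000000000000000000000000000000000000000000000000000000000000000000000000000000000000000000000000000000003fffffffffffffffffffffffffffbeffbdffffffff
open scoped Cfsg.Agent.FastGrp

/-!
# The centralizer of a Sylow 2-subgroup of a sporadic group is a 2-group: `Co₃`, conclusion (helper633)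
-/

set_option autoImplicit false
open Cfsg

namespace Cfsg.Agent.H633.CentTwo

open Subgroup

universe u

/-- Simple groups of Lie type in characteristic 2. -/
theorem CT.of_lieType {K : Type u} [Group K] [Finite K] [IsSimpleGroup K] (hc : center K = ⊥)
    (h : IsLieTypeChar 2 K) : CT K := by
  have hf : Fact (Nat.Prime 2) := ⟨Nat.prime_two⟩
  intro T
  apply isPGroup_of_odd
  intro x hx ho
  have h1 : MulAut.conj x = 1 := by
    refine S4613.result 2 h (MulAut.conj x) ?_ T ?_
    · intro h2
      exact ho (h2.trans (orderOf_map_dvd MulAut.conj x))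
    · intro y hy
      have h3 := mem_centralizer_iff.1 hx y hy
      rw [MulAut.conj_apply, ← h3, mul_inv_cancel_right]
  have h2 : x ∈ center K := by
    rw [mem_center_iff]
    intro g
    have h3 := congrArg (fun f : MulAut K => f g) h1
    simp only [MulAut.conj_apply, MulAut.one_apply] at h3
    rw [mul_inv_eq_iff_eq_mul] at h3
    exact h3.symm
  rwa [hc, mem_bot] at h2

open Cfsg.Agent.SporRec.TwoSp6.Cox Cfsg.Agent.SporRec.TwoSp6.Sp Cfsg.Agent.SporRec.TwoSp6.Lift
  Cfsg.Agent.SporRec.TwoSp6.Main Cfsg.Agent.SporRec.TwoSp6.Invol Cfsg.Agent.SporRec.TwoSp6.CInvol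
open Cfsg.Agent.SporRec.Co3.Fusion (tC mem_cent)
open SporRec.Co3.Ident SporRec.Co3.Chain

theorem ct_sp6 : CT S := by
  have hsimple : IsSimpleGroup S := Co2Type.Setup.isSimpleGroup_sp6
  have e : S ≃* Cfsg.PSp 3 (ZMod 2) :=
    (QuotientGroup.quotientBot.symm).trans (QuotientGroup.quotientMulEquivOfEq Co2Type.Setup.center_sp6.symm)
  exact CT.of_lieType Co2Type.Setup.center_sp6 (Or.inr (Or.inl ⟨ZMod 2, inferInstance, inferInstance, inferInstance, 3,
    by norm_num, by norm_num, ⟨e⟩⟩))

theorem co3 {K : Type u} [Group K] [Finite K] (h : Spor.IsoCo3 K) : CT K := by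
  obtain ⟨e⟩ := h
  have e' : K ≃* SporRec.Co3.Chain.G3 := e.trans SporRec.Co3.Model.equivCo3.symm
  have := Finite.of_equiv K e'.toEquiv
  obtain ⟨π, N⟩ := KFacts.Co3D4.exists_NS_G3
  refine CT.congr e' (CT.of_cover ct_sp6 Z (centralizer ({Z} : Set G3)) (mem_centralizer_singleton_iff.2 rfl)
    (fun x hx _ => mem_centralizer_singleton_iff.2 hx.symm) π N.surj N.map_z ?_)
  refine IsPGroup.of_card (n := 1) ?_
  rw [CTwoTab.Co3.card_ker_of_NS N, pow_one]

/-- The sporadic groups. -/
theorem spor {K : Type u} [Group K] [Finite K] (h : IsSporadicGroup K) : CT K := by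
  rcases h with h | h | h | h | h | h | h | h | h | h | h | h | h | h | h | h | h | h | h | h | h | h | h | h | h | h
  · exact m11 h
  · exact m12 h
  · exact m22 h
  · exact m23 h
  · exact m24 h
  · exact j1 h
  · exact j2 h
  · exact j3 h
  · exact j4 h
  · exact co1 h
  · exact co2 h
  · exact co3 h
  · exact mcl h
  · exact hs h
  · exact suz h
  · exact he h
  · exact ru h
  · exact on h
  · exact ly h
  · exact fi22 h
  · exact fi23 h
  · exact fi24' h
  · exact hn h
  · exact th h
  · exact b h
  · exact m h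

end Cfsg.Agent.H633.CentTwo
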