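import Cfsg.Agent.H633.Principal
import Cfsg.Agent.Blocks.FullDefect
import Cfsg.Agent.Blocks.ExistsModular
import Cfsg.Agent.S0907
import Cfsg.Agent.Prune
set_option linter.all false
prune_inst 0x7f00000000000000000000000000000000000000000000000000000000000000000000000000000000000000000000000000000000000000000000000000000000000000000000000000000000000000003ffff7ffffffffffffffffffffffbeffbdefffffff
open scoped Cfsg.Agent.FastGrp

/-!
# Characters of `q'`-degree in principal blocks (helper633)

* `mem_of_centralizer`: if the centralizer of a Sylow `q`-subgroup is a `q`-group, every irreducible character of degree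
  prime to `q` lies in the principal `q`-block (there is only one `q`-block of maximal defect);
* `exists_not_dvd`: for primes `p ≠ q` with `p` dividing `|G|`, the principal `p`-block has a nontrivial member of degree
  prime to `q`;
* `exists_common`: so the two principal blocks have a common nontrivial member if `C_G(Q)` is a `q`-group.
-/

set_option autoImplicit false
open scoped ComplexConjugate
open Cfsg

namespace Cfsg.Agent.H633.Unique

open Cfsg.Agent.Blocks.Local Cfsg.Agent.Blocks.Basic Cfsg.Agent.Blocks.FullDefect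

variable {G : Type*} [Group G] [Finite G]

/-- If the centralizer of a Sylow `q`-subgroup is a `q`-group, all characters of degree prime to `q` are in the principal
`q`-block. -/
theorem mem_of_centralizer {q : ℕ} [Fact q.Prime] {M : Ideal AlgInt} (hM : IsPModular q M)
    (Q : Sylow q G) (hC : IsPGroup q (Subgroup.centralizer ((Q : Subgroup G) : Set G)))
    (χ : IrrCharacter G) (hχ : ¬ q ∣ charDegree (χ : G → ℂ)) : χ ∈ principalBlock M G := by
  have hprime : M.IsPrime := isPrime_of_isPModular hM
  have h1 := irr_one_ne_zero χ.2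
  show ∀ g : G, MemLocalIdeal M (centralChar (fun _ : G => (1 : ℂ)) g - centralChar (χ : G → ℂ) g)
  intro g
  by_cases hg : q ∣ (Subgroup.centralizer ({g} : Set G)).index
  · have hi : MemLocalIdeal M ((Subgroup.centralizer ({g} : Set G)).index : ℂ) :=
      (memLocalIdeal_natCast_iff hM _).2 hg
    have hz : MemLocalIdeal M (centralChar (χ : G → ℂ) g) := by
      unfold centralChar
      rw [mul_div_assoc]
      exact memLocalIdeal_mul_right hi (memLocalRing_div_one hM χ hχ g)
    have ho : MemLocalIdeal M (centralChar (fun _ : G => (1 : ℂ)) g) := by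
      unfold centralChar
      simpa using hi
    exact memLocalIdeal_sub ho hz
  · obtain ⟨y, hy, hyq, hyχ⟩ := exists_regular_congr hM Q hg
    have hy1 : y = 1 := by
      obtain ⟨k, hk⟩ := (IsPGroup.iff_orderOf.1 hC) ⟨y, hy⟩
      rw [Subgroup.orderOf_mk] at hk
      rcases Nat.eq_zero_or_pos k with rfl | hk0
      · rw [pow_zero] at hk
        exact orderOf_eq_one_iff.1 hk
      · exact absurd (by rw [hk]; exact dvd_pow_self q hk0.ne') hyq
    have h2 := hyχ χ
    rw [hy1] at h2
    have h3 : centralChar (fun _ : G => (1 : ℂ)) g - centralChar (χ : G → ℂ) g =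
        -(((Subgroup.centralizer ({g} : Set G)).index : ℂ) *
          (((χ : G → ℂ) g - (χ : G → ℂ) 1) * ((χ : G → ℂ) 1)⁻¹)) := by
      unfold centralChar
      field_simp
      ring
    rw [h3]
    exact memLocalIdeal_neg (memLocalIdeal_mul_left (memLocalRing_natCast _)
      (memLocalIdeal_mul_right h2 (memLocalRing_inv_one hM χ hχ)))

/-- The principal `p`-block has a nontrivial member of degree prime to `q`, for every prime `q` other than `p`. -/
theorem exists_not_dvd {p q : ℕ} [Fact p.Prime] [Fact q.Prime] {M : Ideal AlgInt} (hM : IsPModular p M)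
    (hp : p ∣ Nat.card G) :
    ∃ χ : IrrCharacter G, χ ∈ principalBlock M G ∧ (χ : G → ℂ) ≠ (fun _ => 1) ∧
      ¬ q ∣ charDegree (χ : G → ℂ) := by
  classical
  by_contra hcon
  push Not at hcon
  obtain ⟨y, hy⟩ := exists_prime_orderOf_dvd_card' p hp
  have hfin : Finite (IrrCharacter G) := Cfsg.Agent.Characters.Core.finite_irr
  have h0 := S0907.result p M hM (principalBlock M G)
    ⟨⟨fun _ => 1, isIrrCharacter_one⟩, rfl⟩ 1 y (by
      rw [orderOf_one]; exact (Fact.out : p.Prime).one_lt.ne' ∘ Nat.dvd_one.1) (by rw [hy])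
  obtain ⟨N, hN⟩ := Blocks.ExistsModular.exists_isPModular (Fact.out : q.Prime)
  have hprime : N.IsPrime := isPrime_of_isPModular hN
  set t : IrrCharacter G := ⟨fun _ => 1, isIrrCharacter_one⟩ with ht
  have htB : t ∈ principalBlock M G := by
    show SameBlock M (fun _ : G => (1 : ℂ)) (fun _ : G => (1 : ℂ))
    intro g
    rw [sub_self]
    exact ⟨0, 1, M.zero_mem, (Ideal.ne_top_iff_one M).1 hM.2.1.ne_top, by simp⟩
  have h2 : ∑ᶠ χ ∈ principalBlock M G, (χ : G → ℂ) 1 * conj ((χ : G → ℂ) y) =
      1 + ∑ᶠ χ ∈ principalBlock M G \ {t}, (χ : G → ℂ) 1 * conj ((χ : G → ℂ) y) := by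
    have hins : principalBlock M G = insert t (principalBlock M G \ {t}) := by
      rw [Set.insert_diff_singleton, Set.insert_eq_of_mem htB]
    conv_lhs => rw [hins]
    rw [finsum_mem_insert _ (by simp) (Set.toFinite _)]
    simp [ht]
  rw [h2] at h0
  have h3 : MemLocalIdeal N
      (∑ᶠ χ ∈ principalBlock M G \ {t}, (χ : G → ℂ) 1 * conj ((χ : G → ℂ) y)) := by
    apply memLocalIdeal_finsum_mem
    intro χ hχ
    have h4 := hcon χ hχ.1 (fun h => hχ.2 (Subtype.ext h))
    have h5 : MemLocalIdeal N ((χ : G → ℂ) 1) := by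
      rw [irr_one_eq_charDegree χ.2]
      exact (memLocalIdeal_natCast_iff hN _).2 h4
    refine memLocalIdeal_mul_right h5 ?_
    have h6 : IsIntegral ℤ ((χ : G → ℂ) y) := Cfsg.Agent.CharactersDeep.ModCongr.isIntegral_irr χ.2 y
    exact memLocalRing_of_isIntegral (h6.map (Complex.conjAe.toAlgHom.restrictScalars ℤ))
  have h4 : ∑ᶠ χ ∈ principalBlock M G \ {t}, (χ : G → ℂ) 1 * conj ((χ : G → ℂ) y) = -1 := by
    linear_combination h0
  rw [h4] at h3
  have h5 := memLocalIdeal_neg h3
  rw [neg_neg] at h5
  exact not_memLocalIdeal_one h5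

/-- If the centralizer of a Sylow `q`-subgroup is a `q`-group then the principal `q`-block has a nontrivial member in common
with the principal `p`-block, for every prime divisor `p ≠ q` of the group order. -/
theorem exists_common {p q : ℕ} [Fact p.Prime] [Fact q.Prime] {M N : Ideal AlgInt} (hM : IsPModular p M)
    (hN : IsPModular q N) (hp : p ∣ Nat.card G) (Q : Sylow q G)
    (hC : IsPGroup q (Subgroup.centralizer ((Q : Subgroup G) : Set G))) :
    ∃ χ : IrrCharacter G, χ ∈ principalBlock M G ∧ χ ∈ principalBlock N G ∧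
      (χ : G → ℂ) ≠ (fun _ => 1) := by
  obtain ⟨χ, h1, h2, h3⟩ := exists_not_dvd (q := q) hM hp
  exact ⟨χ, h1, mem_of_centralizer hN Q hC χ h3, h2⟩

end Cfsg.Agent.H633.Unique
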