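import Mathlib
import Cfsg.Prelude.Def_Classification2
import Cfsg.Prelude.Def_CaseTheorems
import Cfsg.Prelude.Def_ClassificationK
import Cfsg.Agent.Lib.Cores
import Cfsg.Agent.Co2Type.Quad
import Cfsg.Agent.QTNorm.SporBase
import Cfsg.Agent.FastGrp
import Cfsg.Agent.Prune
set_option linter.all false
prune_inst 0x7f00000000000000000000000000000000000000000000000000000000000000000000000000000000000000000000000000000000000000000000000000000000000000000000000000000000000000003fffffffffffffffffffffffffffbeffbdffffffff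
open scoped Cfsg.Agent.FastGrp

/-!
# Groups in which the centralizer of a Sylow 2-subgroup is a 2-group: tools (helper633)

* `CT K`: the centralizer of every Sylow 2-subgroup of `K` is a 2-group;
* `CT.of_two`: it is enough that some 2-subgroup has a centralizer which is a 2-group;
* `CT.congr`, `CT.of_selfN`, `CT.of_large`, `CT.of_charTwo`, `CT.of_cover`.
-/

set_option autoImplicit false
open Cfsg

namespace Cfsg.Agent.H633.CentTwo

open Subgroup

universe u v

/-- The centralizer of every Sylow 2-subgroup is a 2-group. -/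
def CT (K : Type*) [Group K] : Prop :=
  ∀ T : Sylow 2 K, IsPGroup 2 (centralizer ((T : Subgroup K) : Set K))

variable {K : Type u} [Group K]

/-- Elementwise: a subgroup of a finite group is a 2-group if its elements of odd order are trivial. -/
theorem isPGroup_of_odd [Finite K] {C : Subgroup K} (h : ∀ x ∈ C, ¬ 2 ∣ orderOf x → x = 1) : IsPGroup 2 C := by
  intro y
  obtain ⟨k, m, hm, hk⟩ := Nat.exists_eq_pow_mul_and_not_dvd (orderOf_pos (y : K)).ne' 2 (by norm_num)
  refine ⟨k, Subtype.ext (h ((y : K) ^ 2 ^ k) (C.pow_mem y.2 _) ?_)⟩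
  rw [orderOf_pow_of_dvd (pow_ne_zero _ (by norm_num)) (by rw [hk]; exact dvd_mul_right _ _), hk,
    Nat.mul_div_cancel_left _ (pow_pos (by norm_num) _)]
  exact hm

/-- An element of odd order of a 2-group is trivial. -/
theorem eq_one_of_isPGroup {C : Subgroup K} (h : IsPGroup 2 C) {x : K} (hx : x ∈ C)
    (ho : ¬ 2 ∣ orderOf x) : x = 1 := by
  obtain ⟨k, hk⟩ := h ⟨x, hx⟩
  have h1 : x ^ 2 ^ k = 1 := congrArg Subtype.val hk
  have h2 : orderOf x ∣ 2 ^ k := orderOf_dvd_of_pow_eq_one h1
  obtain ⟨j, -, hj⟩ := (Nat.dvd_prime_pow Nat.prime_two).1 h2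
  rcases Nat.eq_zero_or_pos j with rfl | hj0
  · rw [pow_zero] at hj
    exact orderOf_eq_one_iff.1 hj
  · exact absurd (by rw [hj]; exact dvd_pow_self 2 hj0.ne') ho

/-- One 2-subgroup whose centralizer is a 2-group is enough. -/
theorem CT.of_two [Finite K] (A : Subgroup K) (hA : IsPGroup 2 A)
    (hc : ∀ x : K, (∀ a ∈ A, a * x = x * a) → ¬ 2 ∣ orderOf x → x = 1) : CT K := by
  have hf : Fact (Nat.Prime 2) := ⟨Nat.prime_two⟩
  intro T
  obtain ⟨T', hT'⟩ := hA.exists_le_sylow
  obtain ⟨g, hg⟩ := MulAction.exists_smul_eq K T' T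
  apply isPGroup_of_odd
  intro x hx ho
  have h1 : g⁻¹ * x * g = 1 := by
    apply hc
    · intro a ha
      have h2 : g * a * g⁻¹ ∈ (T : Subgroup K) := by
        rw [← hg, Sylow.coe_subgroup_smul]
        exact Subgroup.mem_map.2 ⟨a, hT' ha, rfl⟩
      have h3 := mem_centralizer_iff.1 hx _ h2
      calc a * (g⁻¹ * x * g) = g⁻¹ * ((g * a * g⁻¹) * x) * g := by group
        _ = g⁻¹ * (x * (g * a * g⁻¹)) * g := by rw [h3]
        _ = g⁻¹ * x * g * a := by group
    · have h5 := orderOf_injective (MulAut.conj g⁻¹).toMonoidHom (MulAut.conj g⁻¹).injective x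
      have h6 : (MulAut.conj g⁻¹).toMonoidHom x = g⁻¹ * x * g := by simp
      rw [h6] at h5
      rwa [h5]
  calc x = g * (g⁻¹ * x * g) * g⁻¹ := by group
    _ = 1 := by rw [h1]; group

theorem CT.congr [Finite K] {L : Type v} [Group L] (e : K ≃* L) (h : CT L) : CT K := by
  have hf : Fact (Nat.Prime 2) := ⟨Nat.prime_two⟩
  have : Finite L := Finite.of_equiv K e.toEquiv
  obtain ⟨T⟩ : Nonempty (Sylow 2 L) := inferInstance
  refine CT.of_two ((T : Subgroup L).comap e.toMonoidHom) (T.2.comap_of_injective _ e.injective) ?_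
  intro x hx ho
  have h1 : e x = 1 := by
    refine eq_one_of_isPGroup (h T) ?_ ?_
    · rw [mem_centralizer_iff]
      intro y hy
      have h2 := hx (e.symm y) (by
        rw [Subgroup.mem_comap]
        show e (e.symm y) ∈ (T : Subgroup L)
        rw [e.apply_symm_apply]
        exact hy)
      have h3 := congrArg e h2
      simpa using h3
    · have : orderOf (e x) = orderOf x := orderOf_injective e.toMonoidHom e.injective x
      rwa [this]
  exact (map_eq_one_iff e e.injective).1 h1

theorem CT.of_selfN (h : QTNorm.SelfN K) : CT K := fun T =>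
  T.2.to_le ((centralizer_le_normalizer _).trans (h T))

/-- Groups with a large extraspecial 2-subgroup. -/
theorem CT.of_large [Finite K] {Q : Subgroup K} {z : K} (h : Co2Type.Quad.Large Q z) : CT K := by
  have hQ : IsPGroup 2 Q := by
    intro x
    refine ⟨2, Subtype.ext ?_⟩
    have hz := h.z_sq
    show (x : K) ^ 2 ^ 2 = 1
    have h4 : (x : K) ^ 2 ^ 2 = ((x : K) * x) * (x * x) := by
      rw [show (2 : ℕ) ^ 2 = 4 from rfl, pow_succ, pow_succ, pow_succ, pow_one]
      group
    rw [h4]
    rcases h.sq x x.2 with h1 | h1 <;> rw [h1]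
    · rw [one_mul]
    · exact hz
  refine CT.of_two Q hQ ?_
  intro x hx ho
  have h1 := hx z h.z_mem
  exact eq_one_of_isPGroup hQ (h.self x h1.symm (fun a ha => (hx a ha).symm)) ho

/-- A criterion from a subgroup `H` containing the elements of odd order of `C(t)`, mapping onto a group with `CT`. -/
theorem CT.of_cover [Finite K] {L : Type v} [Group L] (hL : CT L) (t : K) (H : Subgroup K) (htH : t ∈ H)
    (hodd : ∀ x : K, t * x = x * t → ¬ 2 ∣ orderOf x → x ∈ H)
    (π : H →* L) (hπ : Function.Surjective π) (ht : π ⟨t, htH⟩ = 1) (hk : IsPGroup 2 π.ker) : CT K := by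
  have hf : Fact (Nat.Prime 2) := ⟨Nat.prime_two⟩
  have : Finite L := Finite.of_surjective π hπ
  obtain ⟨T⟩ : Nonempty (Sylow 2 L) := inferInstance
  set A : Subgroup H := (T : Subgroup L).comap π with hA
  have hA2 : IsPGroup 2 A := T.2.comap_of_ker_isPGroup π hk
  refine CT.of_two (A.map H.subtype) (hA2.map _) ?_
  intro x hx ho
  have hxH : x ∈ H := by
    refine hodd x (hx t ?_) ho
    exact ⟨⟨t, htH⟩, by rw [hA, SetLike.mem_coe, mem_comap, ht]; exact one_mem _, rfl⟩
  have h1 : π ⟨x, hxH⟩ = 1 := by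
    refine eq_one_of_isPGroup (hL T) ?_ ?_
    · rw [mem_centralizer_iff]
      intro y hy
      obtain ⟨a, rfl⟩ := hπ y
      have h2 := hx a ⟨a, hy, rfl⟩
      have h3 : a * ⟨x, hxH⟩ = ⟨x, hxH⟩ * a := Subtype.ext h2
      rw [← map_mul, h3, map_mul]
    · intro h2
      apply ho
      have h3 : orderOf (π ⟨x, hxH⟩) ∣ orderOf (⟨x, hxH⟩ : H) := orderOf_map_dvd π _
      rw [Subgroup.orderOf_mk] at h3
      exact h2.trans h3
  have h2 : (⟨x, hxH⟩ : H) ∈ π.ker := h1
  have h3 := eq_one_of_isPGroup hk h2 (by rw [Subgroup.orderOf_mk]; exact ho)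
  exact congrArg Subtype.val h3

/-- Groups with a 2-subgroup `R` containing its centralizer. -/
theorem CT.of_self [Finite K] (R : Subgroup K) (hR : IsPGroup 2 R)
    (hc : ∀ x : K, (∀ r ∈ R, r * x = x * r) → x ∈ R) : CT K :=
  CT.of_two R hR fun x hx ho => eq_one_of_isPGroup hR (hc x hx) ho

/-- A 2-local subgroup `N_K(A)` of characteristic 2, `A` a 2-group. -/
theorem CT.of_local [Finite K] (A : Subgroup K) (hA : IsPGroup 2 A)
    (h : IsOfCharacteristicTwo ↥(normalizer (A : Set K))) : CT K := by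
  have hf : Fact (Nat.Prime 2) := ⟨Nat.prime_two⟩
  set H : Subgroup K := normalizer (A : Set K) with hH
  have h2 : IsPGroup 2 (pCore 2 H) := Lib.Cores.pCore_isPGroup 2
  have hAR : A.subgroupOf H ≤ pCore 2 H := by
    apply Lib.Cores.le_pCore
    · exact Subgroup.normal_in_normalizer
    · exact hA.comap_of_injective _ H.subtype_injective
  have hAle : A ≤ H := Subgroup.le_normalizer
  refine CT.of_self ((pCore 2 H).map H.subtype) (h2.map _) ?_
  intro x hx
  have hxH : x ∈ H := by
    apply centralizer_le_normalizer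
    rw [mem_centralizer_iff]
    intro a ha
    exact hx a ⟨⟨a, hAle ha⟩, hAR ha, rfl⟩
  refine ⟨⟨x, hxH⟩, h ?_, rfl⟩
  rw [mem_centralizer_iff]
  intro y hy
  exact Subtype.ext (hx y ⟨y, hy, rfl⟩)

/-- Groups of characteristic 2 type. -/
theorem CT.of_charTwo [Finite K] (h : IsCharacteristicTwoType K) : CT K := by
  obtain ⟨z, hz⟩ := exists_prime_orderOf_dvd_card' (G := K) 2 h.1.two_dvd
  have h2 : IsPGroup 2 (zpowers z) := IsPGroup.of_card (n := 1) (by rw [Nat.card_zpowers, hz, pow_one])
  refine CT.of_local (zpowers z) h2 (h.2 _ h2 ?_)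
  intro h1
  rw [zpowers_eq_bot] at h1
  rw [h1, orderOf_one] at hz
  norm_num at hz

/-- Groups of even characteristic. -/
theorem CT.of_even [Finite K] (h2 : 2 ∣ Nat.card K) (h : IsOfEvenCharacteristic K) : CT K := by
  have hf : Fact (Nat.Prime 2) := ⟨Nat.prime_two⟩
  obtain ⟨T⟩ : Nonempty (Sylow 2 K) := inferInstance
  refine CT.of_local (T : Subgroup K) T.2 (h _ ⟨T, T.2, ?_, rfl⟩ ⟨T, Subgroup.le_normalizer⟩)
  intro h1
  have h3 := T.card_eq_multiplicity
  rw [h1, Subgroup.card_bot] at h3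
  have h4 : 0 < (Nat.card K).factorization 2 :=
    Nat.prime_two.factorization_pos_of_dvd Nat.card_pos.ne' h2
  have h5 : 1 < 2 ^ (Nat.card K).factorization 2 := Nat.one_lt_pow h4.ne' (by norm_num)
  omega

end Cfsg.Agent.H633.CentTwo
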